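import Groth.Agent.ColimFP.Basic
import Mathlib.RingTheory.AdicCompletion.Algebra
import Mathlib.CategoryTheory.Limits.Types.Filtered

/-!
Approximation of polynomial systems gives approximation for functors commuting with filtered colimits.
-/

set_option autoImplicit false

universe u

open CategoryTheory CategoryTheory.Limits MvPolynomial

namespace Groth.Agent.ApproxFunctor

theorem exists_approx {A : Type u} [CommRing A] (B Q : Type u) [CommRing B] [Algebra A B]
    [CommRing Q] [Algebra A Q] (e : B →ₐ[A] Q)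
    (hAP : ∀ (k l : ℕ) (f : Fin l → MvPolynomial (Fin k) A) (b : Fin k → B),
      (∀ i, MvPolynomial.aeval b (f i) = 0) →
      ∃ a : Fin k → A, (∀ i, MvPolynomial.eval a (f i) = 0) ∧
        ∀ j, algebraMap A Q (a j) = e (b j))
    (i : ColimFP.Idx A B) :
    ∃ φ : ColimFP.alg i →ₐ[A] A, (Algebra.ofId A Q).comp φ = e.comp (ColimFP.toA i) := by
  classical
  let v := (Fintype.equivFin {x // x ∈ i.gens})
  let r := (Fintype.equivFin {g // g ∈ i.rels})
  obtain ⟨a, ha, hab⟩ := hAP _ _ (fun j => rename v (r.symm j).1) (fun j => ((v.symm j).1 : B))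
    fun j => by
      rw [aeval_rename]
      have := i.ok _ (r.symm j).2
      simpa [Function.comp_def] using this
  have hker : ∀ p ∈ Ideal.span (i.rels : Set (MvPolynomial {x // x ∈ i.gens} A)),
      aeval (a ∘ v) p = (0 : A) := by
    intro p hp
    refine (Ideal.span_le.2 ?_ : _ ≤ RingHom.ker (aeval (R := A) (a ∘ v)).toRingHom) hp
    intro g hg
    show aeval (a ∘ v) g = 0
    have h := ha (r ⟨g, hg⟩)
    rw [Equiv.symm_apply_apply, eval_rename] at h
    exact h
  refine ⟨Ideal.Quotient.liftₐ _ (aeval (a ∘ v)) hker, ColimFP.alg_ext fun x => ?_⟩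
  rw [AlgHom.comp_apply, AlgHom.comp_apply, ColimFP.toA_gen]
  show algebraMap A Q (aeval (a ∘ v) (X x)) = _
  rw [aeval_X, Function.comp_apply, hab, Equiv.symm_apply_apply]

theorem exists_functor_approx (A : Type u) [CommRing A] (m : Ideal A)
    (hAP : ∀ (k l c : ℕ) (f : Fin l → MvPolynomial (Fin k) A) (â : Fin k → AdicCompletion m A),
      (∀ i, MvPolynomial.aeval â (f i) = 0) →
      ∃ a : Fin k → A, (∀ i, MvPolynomial.eval a (f i) = 0) ∧
        ∀ j, Ideal.Quotient.mk (m ^ c) (a j) = AdicCompletion.evalₐ m c (â j))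
    (F : Under (CommRingCat.of A) ⥤ Type u)
    (hF : ∀ (J : Type u) [SmallCategory J] [IsFiltered J], PreservesColimitsOfShape J F)
    (c : ℕ)
    (π : Under.mk (CommRingCat.ofHom (algebraMap A (AdicCompletion m A))) ⟶
      Under.mk (CommRingCat.ofHom (algebraMap A (A ⧸ m ^ c))))
    (hπ : π.right = CommRingCat.ofHom
      (AdicCompletion.evalₐ m c : AdicCompletion m A →ₐ[A] A ⧸ m ^ c).toRingHom)
    (ρ : Under.mk (𝟙 (CommRingCat.of A)) ⟶ Under.mk (CommRingCat.ofHom (algebraMap A (A ⧸ m ^ c))))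
    (ξ : F.obj (Under.mk (CommRingCat.ofHom (algebraMap A (AdicCompletion m A))))) :
    ∃ η : F.obj (Under.mk (𝟙 (CommRingCat.of A))), F.map ρ η = F.map π ξ := by
  haveI := hF (ColimFP.Idx A (AdicCompletion m A))
  obtain ⟨i, y, hy⟩ := Types.jointly_surjective_of_isColimit
    (isColimitOfPreserves F (ColimFP.isColimit (R := A) (A := AdicCompletion m A))) ξ
  obtain ⟨φ, hφ⟩ := exists_approx (AdicCompletion m A) (A ⧸ m ^ c) (AdicCompletion.evalₐ m c)
    (fun k l f b hb => hAP k l c f b hb) i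
  let ψ : (ColimFP.diag A (AdicCompletion m A)).obj i ⟶ Under.mk (𝟙 (CommRingCat.of A)) :=
    Under.homMk (CommRingCat.ofHom φ.toRingHom)
      (CommRingCat.hom_ext (RingHom.ext fun r => φ.commutes r))
  refine ⟨F.map ψ y, ?_⟩
  have hρ : ∀ r : A, ρ.right r = algebraMap A (A ⧸ m ^ c) r := fun r =>
    congrArg (fun f : CommRingCat.of A ⟶ CommRingCat.of (A ⧸ m ^ c) => f r) (Under.w ρ)
  have hcomp : ψ ≫ ρ = (ColimFP.cocone A (AdicCompletion m A)).ι.app i ≫ π := by
    refine Under.UnderMorphism.ext (CommRingCat.hom_ext (RingHom.ext fun z => ?_))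
    show ρ.right (φ z) = π.right (ColimFP.toA i z)
    rw [hρ, hπ]
    exact AlgHom.congr_fun hφ z
  rw [← hy]
  show (F.map ψ ≫ F.map ρ) y = (F.map _ ≫ F.map π) y
  rw [← F.map_comp, ← F.map_comp, hcomp]
  rfl

end Groth.Agent.ApproxFunctor
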